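import Groth.Agent.DiagRepLib.Scheme
import Groth.Agent.DiagRepLib.Coords
import Groth.Prelude.Def_Mor2

/-! Multiplication by `N` on a split torus. -/

set_option autoImplicit false
set_option linter.style.haveILetI false
set_option maxHeartbeats 400000

noncomputable section

universe u

open CategoryTheory MonoidalCategory CartesianMonoidalCategory AlgebraicGeometry CoactBr WithConv
open scoped MonObj TensorProduct
open Groth.Agent

attribute [-instance] CategoryTheory.Hom.commGroup

namespace NTorsLib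

variable (k : Type u) [Field k] (r N : ℕ)

/-- Laurent polynomials. -/
abbrev Lau : Type u := MonoidAlgebra k (Multiplicative (Fin r → ℤ))

/-- The map `e a ↦ e (N a)`. -/
def powHom : Lau k r →ₐ[k] Lau k r :=
  MonoidAlgebra.mapDomainAlgHom k k (AddMonoidHom.toMultiplicative (nsmulAddMonoidHom N : (Fin r → ℤ) →+ (Fin r → ℤ)))

/-- Division with remainder in the character group. -/
def divEquiv (hN : 0 < N) : (Fin r → ℤ) × (Fin r → Fin N) ≃ (Fin r → ℤ) where
  toFun p := fun i => (N : ℤ) * p.1 i + ((p.2 i : ℕ) : ℤ)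
  invFun m := (fun i => m i / N, fun i => ⟨(m i % N).toNat, by
    have h1 := Int.emod_lt_of_pos (m i) (show (0 : ℤ) < N by exact_mod_cast hN)
    have h2 := Int.emod_nonneg (m i) (show (N : ℤ) ≠ 0 by exact_mod_cast hN.ne')
    omega⟩)
  left_inv p := by
    have hN' : (N : ℤ) ≠ 0 := by exact_mod_cast hN.ne'
    have h : ∀ i, ((p.2 i : ℕ) : ℤ) < N := fun i => by exact_mod_cast (p.2 i).2
    refine Prod.ext (funext fun i => ?_) (funext fun i => Fin.ext ?_)
    · show ((N : ℤ) * p.1 i + ((p.2 i : ℕ) : ℤ)) / N = p.1 i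
      rw [add_comm, Int.add_mul_ediv_left _ _ hN', Int.ediv_eq_zero_of_lt (Int.natCast_nonneg _) (h i), zero_add]
    · show ((((N : ℤ) * p.1 i + ((p.2 i : ℕ) : ℤ)) % N)).toNat = (p.2 i : ℕ)
      rw [add_comm, Int.add_mul_emod_self_left, Int.emod_eq_of_lt (Int.natCast_nonneg _) (h i), Int.toNat_natCast]
  right_inv m := by
    funext i
    show (N : ℤ) * (m i / N) + (((m i % N).toNat : ℕ) : ℤ) = m i
    rw [Int.toNat_of_nonneg (Int.emod_nonneg _ (show (N : ℤ) ≠ 0 by exact_mod_cast hN.ne'))]
    exact Int.mul_ediv_add_emod (m i) N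

/-- The target of `powHom`, viewed as an algebra over its source. -/
def LauT (k : Type u) [Field k] (r _N : ℕ) : Type u := Lau k r

instance : CommRing (LauT k r N) := inferInstanceAs (CommRing (Lau k r))

instance : Algebra (Lau k r) (LauT k r N) :=
  RingHom.toAlgebra (R := Lau k r) (S := LauT k r N) (powHom k r N).toRingHom

/-- The Laurent polynomials are free of rank `N ^ r` over the image of `powHom`. -/
theorem free_powHom (hN : 0 < N) :
    Module.Free (Lau k r) (LauT k r N) ∧ Module.Finite (Lau k r) (LauT k r N) ∧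
      Module.finrank (Lau k r) (LauT k r N) = N ^ r := by
  let E := DiagRep.monoidAlgebraBasis k (Fin r → ℤ)
  let S := Lau k r
  let f := powHom k r N
  let Φ : ((Fin r → Fin N) → S) →ₗ[k] S :=
    { toFun := fun c => ∑ j, f (c j) * E.e (fun i => ((j i : ℕ) : ℤ))
      map_add' := fun c c' => by simp [add_mul, Finset.sum_add_distrib]
      map_smul' := fun a c => by simp [Finset.smul_sum] }
  let b₀ : Module.Basis ((Σ _ : Fin r → Fin N, (Fin r → ℤ))) k ((Fin r → Fin N) → S) := Pi.basis fun _ => E.e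
  let σ : (Σ _ : Fin r → Fin N, (Fin r → ℤ)) ≃ (Fin r → ℤ) :=
    (Equiv.sigmaEquivProd _ _).trans ((Equiv.prodComm _ _).trans (divEquiv r N hN))
  have hΦ : Φ = (b₀.equiv E.e σ).toLinearMap := b₀.ext fun ⟨j, a⟩ => by
    rw [LinearEquiv.coe_coe, Module.Basis.equiv_apply]
    show ∑ l, f (b₀ ⟨j, a⟩ l) * E.e _ = _
    rw [Finset.sum_eq_single j]
    · have hf : f (E.e a) = E.e (N • a) := by
        simp [f, powHom, E, DiagRep.monoidAlgebraBasis]
      simp only [b₀, Pi.basis_apply, Pi.single_eq_same]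
      rw [hf, E.e_mul]
      exact congrArg E.e (funext fun i => by simp [σ, divEquiv])
    · intro l _ hl
      simp [b₀, Pi.basis_apply, Pi.single_eq_of_ne hl]
    · simp
  have hbij : Function.Bijective Φ := by
    rw [hΦ]
    exact (b₀.equiv E.e σ).bijective
  let Ψ : ((Fin r → Fin N) → S) →ₗ[S] LauT k r N :=
    { toFun := fun c => Φ c
      map_add' := Φ.map_add
      map_smul' := fun c x => by
        show ∑ j, f (c * x j) * E.e (fun i => ((j i : ℕ) : ℤ)) = f c * ∑ j, f (x j) * E.e (fun i => ((j i : ℕ) : ℤ))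
        simp [Finset.mul_sum, mul_assoc] }
  let L := LinearEquiv.ofBijective Ψ hbij
  refine ⟨Module.Free.of_equiv L, Module.Finite.equiv L, ?_⟩
  rw [← L.finrank_eq, Module.finrank_fintype_fun_eq_card]
  simp

theorem isFinLocFreeOfDeg_powHom (hN : 0 < N) :
    Mor2.IsFinLocFreeOfDeg (N ^ r) (Spec.map (CommRingCat.ofHom (powHom k r N).toRingHom)) := by
  obtain ⟨h1, h2, h3⟩ := free_powHom k r N hN
  haveI := h1
  haveI := h2
  show Mor2.IsFinLocFreeOfDeg (N ^ r) (Spec.map (CommRingCat.ofHom (algebraMap (Lau k r) (LauT k r N))))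
  refine ⟨⟨?_, ?_, ?_⟩, fun y => ?_⟩
  · rw [IsFinite.SpecMap_iff, CommRingCat.hom_ofHom]
    exact RingHom.finite_algebraMap.2 h2
  · rw [Flat.SpecMap_iff, CommRingCat.hom_ofHom]
    exact RingHom.flat_algebraMap_iff.2 inferInstance
  · rw [LocallyOfFinitePresentation.SpecMap_iff, CommRingCat.hom_ofHom]
    haveI : IsNoetherianRing (Lau k r) := Algebra.FiniteType.isNoetherianRing k (Lau k r)
    exact RingHom.finitePresentation_algebraMap.2
      (Algebra.FinitePresentation.of_finiteType.1 (inferInstance : Algebra.FiniteType (Lau k r) (LauT k r N)))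
  · refine (Scheme.Hom.finrank_SpecMap_algebraMap (Lau k r) (LauT k r N) y).trans ?_
    rw [Module.rankAtStalk_eq_finrank_of_free]
    exact h3

theorem powHom_eq_conv :
    toConv (powHom k r N) = toConv (AlgHom.id k (Lau k r)) ^ N := by
  let E := DiagRep.monoidAlgebraBasis k (Fin r → ℤ)
  suffices h : ∀ (n : ℕ) a, (toConv (AlgHom.id k (Lau k r)) ^ n).ofConv (E.e a) = E.e (n • a) by
    refine WithConv.ext (AlgHom.toLinearMap_injective (E.e.ext fun a => ?_))
    exact (show powHom k r N (E.e a) = E.e (N • a) by simp [powHom, E, DiagRep.monoidAlgebraBasis]).trans (h N a).symm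
  intro n a
  induction n with
  | zero =>
    rw [pow_zero, zero_smul, E.e_zero, AlgHom.convOne_apply, E.counit_e, map_one]
  | succ n ih =>
    rw [pow_succ, AlgHom.convMul_apply, E.comul_e]
    simp [ih, add_smul, E.e_mul]

theorem pow_eq_pt : (𝟙 (sp k (Lau k r))) ^ N = pt (powHom k r N) := by
  have h : ∀ n, (𝟙 (sp k (Lau k r))) ^ n = pt (toConv (AlgHom.id k (Lau k r)) ^ n).ofConv := fun n => by
    induction n with
    | zero => rw [pow_zero, pow_zero]; exact (DiagRep.pt_one).symm
    | succ n ih => rw [pow_succ, pow_succ, ih, ← pt_id, DiagRep.pt_mul_conv]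
  rw [h, ← powHom_eq_conv]

theorem isFinLocFreeOfDeg_pow (hN : 0 < N) :
    Mor2.IsFinLocFreeOfDeg (N ^ r) ((𝟙 (sp k (Lau k r))) ^ N).left := by
  rw [pow_eq_pt, pt_left]
  exact isFinLocFreeOfDeg_powHom k r N hN

end NTorsLib

end
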