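import Groth.Agent.NTorsLib.Laurent
import Groth.Agent.RedRankLib.Open
import Groth.Agent.FibDimLib.FieldExt
import Groth.Agent.SemiAbLib.BaseChange
import Groth.Agent.HilbPtsLib.Desc
import Groth.Agent.HilbPtsLib.Basic

/-! Multiplication by `N` on a torus. -/

set_option autoImplicit false
set_option linter.style.haveILetI false
set_option maxHeartbeats 400000
set_option backward.isDefEq.respectTransparency false

noncomputable section

universe u

open CategoryTheory CategoryTheory.Limits MonoidalCategory CartesianMonoidalCategory AlgebraicGeometry CoactBr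
open scoped MonObj
open Groth.Agent

attribute [-instance] CategoryTheory.Hom.commGroup

namespace NTorsLib

theorem mul_inv_aux {α : Type*} [CommGroup α] (a b : α) : a * (b⁻¹ * a)⁻¹ = b := by
  simp [mul_comm, mul_assoc]

theorem inv_mul_aux {α : Type*} [CommGroup α] (a b : α) : (a * b⁻¹)⁻¹ * a = b := by
  simp [mul_comm, mul_assoc]

/-- Being finite locally free of degree `d` passes along isomorphisms of group objects. -/
theorem isFinLocFreeOfDeg_pow_of_iso {S : Scheme.{u}} {X Y : Over S} [GrpObj X] [GrpObj Y] (v : X ≅ Y)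
    [IsMonHom v.inv] {d N : ℕ} (h : Mor2.IsFinLocFreeOfDeg d (𝟙 X ^ N).left) :
    Mor2.IsFinLocFreeOfDeg d (𝟙 Y ^ N).left := by
  refine HilbPts.isFinLocFreeOfDeg_of_isPullback (a := v.inv.left) (h := v.inv.left)
    (IsPullback.of_horiz_isIso ⟨?_⟩) h
  rw [← Over.comp_left, ← Over.comp_left, MonObj.comp_pow, Category.comp_id, MonObj.pow_comp, Category.id_comp]

/-- Multiplication by `N` on a torus of dimension `t` is finite locally free of degree `N ^ t`. -/
theorem isFinLocFreeOfDeg_pow_torus {k : Type u} [Field k] {T : Over (Spec (CommRingCat.of k))} [GrpObj T]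
    [LocallyOfFiniteType T.hom] (hT : Red.IsTorus T) {t : ℕ} (ht : topologicalKrullDim ↥T.left = t)
    {N : ℕ} (hN : 0 < N) : Mor2.IsFinLocFreeOfDeg (N ^ t) (𝟙 T ^ N).left := by
  let K := AlgebraicClosure k
  let F := AVAmpleLib.bcF (k := k) K
  letI : GrpObj (F.obj T) := Functor.grpObjObj
  have hT' : Red.IsTorus (F.obj T) := SemiAbLib.isTorus_bc K hT
  obtain ⟨r, v, hv, hv', hr⟩ := RedRank.exists_torus_rank hT'
  have hd : topologicalKrullDim ↥(F.obj T).left = t :=
    (FibDimLib.topologicalKrullDim_pullback_field k K T.hom).trans ht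
  obtain rfl : r = t := by
    have := hr.symm.trans hd
    exact_mod_cast this
  haveI := hv'
  have h1 : Mor2.IsFinLocFreeOfDeg (N ^ r) (F.map (𝟙 T ^ N)).left := by
    rw [SemiAbLib.map_pow_id K T N]
    exact isFinLocFreeOfDeg_pow_of_iso v (isFinLocFreeOfDeg_pow K r N hN)
  haveI : Surjective (Spec.map (CommRingCat.ofHom (algebraMap k K))) := SemiAbLib.surjective_spec K
  haveI : Flat (Spec.map (CommRingCat.ofHom (algebraMap k K))) := Groth.Agent.GrpField.flat_field _
  exact HilbPts.isFinLocFreeOfDeg_descend (AVAmpleLib.isPullback_bc K (𝟙 T ^ N)) h1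

end NTorsLib

end
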